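import Mathlib

/-!
Subrings of Artinian local rings cut out by a finite extension of residue fields.
-/

set_option autoImplicit false
universe u

open IsLocalRing

namespace Groth.Agent.Lib.ArtinLift4

variable {R C k : Type u} [CommRing R] [CommRing C] [Field k]
  [IsLocalRing C] [IsArtinianRing C]
  (χ : C →+* k) (f : R →+* k)

/-- Elements of `C` whose residue lies in the range of `f`. -/
abbrev resSub : Subring C := f.range.comap χ

omit [IsArtinianRing C] in
theorem isUnit_of_ne_zero (hχ : Function.Surjective χ) {c : C} (h : χ c ≠ 0) : IsUnit c := by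
  by_contra hu
  refine h ?_
  have hm : RingHom.ker χ = maximalIdeal C :=
    eq_maximalIdeal (RingHom.ker_isMaximal_of_surjective χ hχ)
  rw [← RingHom.mem_ker, hm]
  exact hu

omit [IsArtinianRing C] in
theorem isUnit_resSub (hχ : Function.Surjective χ) (hf : ∀ x, f x ≠ 0 → IsUnit x)
    {c : resSub χ f} (h : χ c ≠ 0) : IsUnit c := by
  obtain ⟨x, hx⟩ := c.2
  obtain ⟨d, hd⟩ := isUnit_iff_exists_inv.mp (isUnit_of_ne_zero χ hχ h)
  obtain ⟨y, hy⟩ := isUnit_iff_exists_inv.mp (hf x (by rw [hx]; exact h))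
  have hdmem : d ∈ resSub χ f := by
    refine ⟨y, ?_⟩
    have e1 : χ c * χ d = 1 := by rw [← map_mul, hd, map_one]
    have e2 : f x * f y = 1 := by rw [← map_mul, hy, map_one]
    rw [hx] at e2
    exact mul_left_cancel₀ h (e2.trans e1.symm)
  exact isUnit_iff_exists_inv.mpr ⟨⟨d, hdmem⟩, Subtype.ext hd⟩

omit [IsArtinianRing C] in
theorem isLocalRing_resSub (hχ : Function.Surjective χ) (hf : ∀ x, f x ≠ 0 → IsUnit x) :
    IsLocalRing (resSub χ f) := by
  refine IsLocalRing.of_isUnit_or_isUnit_one_sub_self fun c => ?_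
  by_cases h : χ c = 0
  · exact .inr (isUnit_resSub χ f hχ hf (by simp [h]))
  · exact .inl (isUnit_resSub χ f hχ hf h)

omit [IsArtinianRing C] in
theorem isLocalHom_subtype (hχ : Function.Surjective χ) (hf : ∀ x, f x ≠ 0 → IsUnit x) :
    IsLocalHom (resSub χ f).subtype :=
  ⟨fun c hc => isUnit_resSub χ f hχ hf fun h0 => (hc.map χ).ne_zero h0⟩

omit [IsArtinianRing C] in
theorem finite_over_resSub (hχ : Function.Surjective χ) (hfin : f.Finite) :
    Module.Finite (resSub χ f) C := by
  letI := f.toAlgebra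
  haveI : Module.Finite R k := hfin
  obtain ⟨s, hs⟩ := (inferInstance : Module.Finite R k).fg_top
  classical
  refine ⟨⟨insert 1 (s.image (Function.surjInv hχ)), eq_top_iff.mpr fun c _ => ?_⟩⟩
  set M := Submodule.span (resSub χ f) ((↑(insert 1 (s.image (Function.surjInv hχ))) : Set C))
    with hM
  have key : ∀ z ∈ Submodule.span R (s : Set k), ∃ m ∈ M, χ m = z := by
    intro z hz
    induction hz using Submodule.span_induction with
    | mem z hz =>
      refine ⟨Function.surjInv hχ z, Submodule.subset_span ?_, Function.surjInv_eq hχ z⟩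
      simp only [Finset.coe_insert, Finset.coe_image]
      exact Set.mem_insert_of_mem _ ⟨z, hz, rfl⟩
    | zero => exact ⟨0, M.zero_mem, map_zero _⟩
    | add a b _ _ ha hb =>
      obtain ⟨m, hm, rfl⟩ := ha
      obtain ⟨n, hn, rfl⟩ := hb
      exact ⟨m + n, M.add_mem hm hn, map_add _ _ _⟩
    | smul r a _ ha =>
      obtain ⟨m, hm, rfl⟩ := ha
      obtain ⟨d, hd⟩ := hχ (f r)
      refine ⟨d * m, ?_, ?_⟩
      · exact M.smul_mem (⟨d, ⟨r, hd.symm⟩⟩ : resSub χ f) hm
      · rw [map_mul, hd]; rfl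
  obtain ⟨m, hm, hmc⟩ := key (χ c) (by rw [hs]; trivial)
  have h0 : c - m ∈ resSub χ f := ⟨0, by simp [hmc]⟩
  have h1 : c - m ∈ M := by
    have := M.smul_mem (⟨c - m, h0⟩ : resSub χ f)
      (Submodule.subset_span (Finset.mem_coe.mpr (Finset.mem_insert_self 1 _)))
    simpa [Subring.smul_def] using this
  simpa using M.add_mem h1 hm

theorem isArtinianRing_resSub (hχ : Function.Surjective χ) (hf : ∀ x, f x ≠ 0 → IsUnit x)
    (hfin : f.Finite) : IsArtinianRing (resSub χ f) := by
  haveI := isLocalRing_resSub χ f hχ hf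
  haveI := finite_over_resSub χ f hχ hfin
  let J : Ideal C := RingHom.ker χ
  have hJ : J = maximalIdeal C :=
    eq_maximalIdeal (RingHom.ker_isMaximal_of_surjective χ hχ)
  let J₀ : Ideal (resSub χ f) := J.comap (resSub χ f).subtype
  have hmax : maximalIdeal (resSub χ f) = J₀ := by
    ext c
    refine ⟨fun hc => ?_, fun hc hu => ((hu.map (resSub χ f).subtype).map χ).ne_zero hc⟩
    by_contra h
    exact hc (isUnit_resSub χ f hχ hf h)
  have hnil : IsNilpotent J₀ := by
    obtain ⟨n, hn⟩ : IsNilpotent J := by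
      rw [hJ]
      exact (isArtinianRing_iff_isNilpotent_maximalIdeal C).mp inferInstance
    refine ⟨n, ?_⟩
    have h1 : (J₀ ^ n).map (resSub χ f).subtype ≤ J ^ n := by
      rw [Ideal.map_pow]
      exact Ideal.pow_right_mono Ideal.map_comap_le n
    rw [Ideal.zero_eq_bot, eq_bot_iff] at hn ⊢
    intro c hc
    have h2 : (c : C) ∈ (⊥ : Ideal C) := hn (h1 (Ideal.mem_map_of_mem _ hc))
    exact Ideal.mem_bot.mpr (Subtype.ext (Ideal.mem_bot.mp h2))
  have hfg : J₀.FG := by
    haveI : Module.Finite C J := Module.Finite.of_fg (IsNoetherian.noetherian _)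
    haveI : Module.Finite (resSub χ f) J := Module.Finite.trans C J
    let L : J₀ →ₗ[resSub χ f] J :=
      { toFun := fun c => ⟨(c.1 : C), c.2⟩
        map_add' := fun _ _ => rfl
        map_smul' := fun _ _ => rfl }
    have hL : Function.Bijective L := by
      refine ⟨fun a b h => ?_, fun c => ⟨⟨⟨c.1, ⟨0, ?_⟩⟩, c.2⟩, rfl⟩⟩
      · exact Subtype.ext (Subtype.ext (congrArg (fun z : J => (z : C)) h))
      · simpa using (RingHom.mem_ker.mp c.2).symm
    exact Module.Finite.iff_fg.mp (Module.Finite.equiv (LinearEquiv.ofBijective L hL).symm)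
  haveI : IsNoetherianRing (resSub χ f) := by
    refine IsNoetherianRing.of_prime fun p hp => ?_
    obtain ⟨n, hn⟩ := hnil
    have h1 : J₀ ≤ p := hp.le_of_pow_le (n := n) (by rw [hn, Ideal.zero_eq_bot]; exact bot_le)
    have h2 : p = J₀ := le_antisymm (hmax ▸ le_maximalIdeal hp.ne_top) h1
    rwa [h2]
  rw [isArtinianRing_iff_isNilpotent_maximalIdeal, hmax]
  exact hnil

end Groth.Agent.Lib.ArtinLift4
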