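import Mathlib
import Groth.Agent.Lib.ArtinLift4.Ring

/-!
Artinian lifting for finite residue extensions follows from the case of trivial residue extensions.
-/

set_option autoImplicit false
universe u

open AlgebraicGeometry CategoryTheory IsLocalRing

namespace Groth.Agent.Lib.ArtinLift4

/-- The reduction map from a local ring to the residue field of the spectrum at the closed point. -/
noncomputable def resMap (C : Type u) [CommRing C] [IsLocalRing C] :
    C →+* (Spec (CommRingCat.of C)).residueField (closedPoint C) :=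
  ((stalkClosedPointIso (CommRingCat.of C)).inv ≫ (Spec (CommRingCat.of C)).residue _).hom

theorem resMap_surjective (C : Type u) [CommRing C] [IsLocalRing C] :
    Function.Surjective (resMap C) := by
  rw [resMap, CommRingCat.hom_comp, RingHom.coe_comp]
  exact ((Spec (CommRingCat.of C)).residue_surjective _).comp
    (stalkClosedPointIso (CommRingCat.of C)).symm.commRingCatIsoToRingEquiv.surjective

theorem residue_residueFieldMap_eq {X : Scheme.{u}} {C : Type u} [CommRing C] [IsLocalRing C]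
    (a : Spec (CommRingCat.of C) ⟶ X) :
    (a.residueFieldMap (closedPoint C)).hom.comp (X.residue (a (closedPoint C))).hom =
      (resMap C).comp (Scheme.stalkClosedPointTo a).hom := by
  rw [← CommRingCat.hom_comp, Scheme.residue_residueFieldMap]
  rw [resMap, ← CommRingCat.hom_comp, Scheme.stalkClosedPointTo, Category.assoc,
    Iso.hom_inv_id_assoc]

theorem map_fromSpecStalk_closedPoint {X : Scheme.{u}} {x : X} {C : Type u} [CommRing C]
    [IsLocalRing C] (φ : X.presheaf.stalk x ⟶ CommRingCat.of C) [IsLocalHom φ.hom] :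
    (Spec.map φ ≫ X.fromSpecStalk x) (closedPoint C) = x := by
  rw [Scheme.Hom.comp_apply]
  erw [Spec_closedPoint]
  exact Scheme.fromSpecStalk_closedPoint

theorem fromSpecStalk_injective {X : Scheme.{u}} {x : X} {C : Type u} [CommRing C]
    [IsLocalRing C] (φ ψ : X.presheaf.stalk x ⟶ CommRingCat.of C) [hφ : IsLocalHom φ.hom]
    [hψ : IsLocalHom ψ.hom] (h : Spec.map φ ≫ X.fromSpecStalk x = Spec.map ψ ≫ X.fromSpecStalk x) :
    φ = ψ := by
  have := (SpecToEquivOfLocalRing X (CommRingCat.of C)).symm.injective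
    (a₁ := ⟨x, φ, hφ⟩) (a₂ := ⟨x, ψ, hψ⟩) h
  simpa using this

theorem exists_stalkHom {X : Scheme.{u}} {x : X} {C : Type u} [CommRing C] [IsLocalRing C]
    (b : Spec (CommRingCat.of C) ⟶ X) (hb : b (closedPoint C) = x) :
    ∃ ψ : X.presheaf.stalk x ⟶ CommRingCat.of C, IsLocalHom ψ.hom ∧
      Spec.map ψ ≫ X.fromSpecStalk x = b := by
  subst hb
  exact ⟨Scheme.stalkClosedPointTo b, inferInstance, Scheme.Spec_stalkClosedPointTo_fromSpecStalk b⟩

/-- Artinian formal versality at a point: lifting for trivial residue extensions. -/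
def TrivialResLift {S T : Scheme.{u}} (g : T ⟶ S) (t : T) : Prop :=
  ∀ (C C' : Type u) [CommRing C] [CommRing C'] [IsLocalRing C] [IsLocalRing C'] [IsArtinianRing C]
    [IsArtinianRing C'] (π : C' →+* C), Function.Surjective π →
    ∀ (a : Spec (CommRingCat.of C) ⟶ T) (b : Spec (CommRingCat.of C') ⟶ S),
      a (closedPoint C) = t →
      Function.Surjective (a.residueFieldMap (closedPoint C)).hom →
      Spec.map (CommRingCat.ofHom π) ≫ b = a ≫ g →
      ∃ c : Spec (CommRingCat.of C') ⟶ T, Spec.map (CommRingCat.ofHom π) ≫ c = a ∧ c ≫ g = b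

theorem lift_of_finite {S T : Scheme.{u}} (g : T ⟶ S) (t : T) (hT : TrivialResLift g t)
    (C C' : Type u) [CommRing C] [CommRing C'] [IsLocalRing C] [IsLocalRing C'] [IsArtinianRing C]
    [IsArtinianRing C'] (π : C' →+* C) (hπ : Function.Surjective π)
    (a : Spec (CommRingCat.of C) ⟶ T) (b : Spec (CommRingCat.of C') ⟶ S)
    (ha : a (closedPoint C) = t) (hfin : (a.residueFieldMap (closedPoint C)).hom.Finite)
    (hab : Spec.map (CommRingCat.ofHom π) ≫ b = a ≫ g) :
    ∃ c : Spec (CommRingCat.of C') ⟶ T, Spec.map (CommRingCat.ofHom π) ≫ c = a ∧ c ≫ g = b := by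
  subst ha
  haveI hπloc : IsLocalHom π := .of_surjective π hπ
  set t := a (closedPoint C) with ht
  set φ : T.presheaf.stalk t ⟶ CommRingCat.of C := Scheme.stalkClosedPointTo a with hφ
  haveI hφloc : IsLocalHom φ.hom := Scheme.isLocalHom_stalkClosedPointTo' a
  have ha' : Spec.map φ ≫ T.fromSpecStalk t = a := Scheme.Spec_stalkClosedPointTo_fromSpecStalk a
  have hbpt : b (closedPoint C') = g t := by
    have := congrArg (fun h : Spec (CommRingCat.of C) ⟶ S => h (closedPoint C)) hab
    simp only [Scheme.Hom.comp_apply] at this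
    rw [ht, ← this]
    congr 1
    exact (Spec_closedPoint (f := CommRingCat.ofHom π)).symm
  obtain ⟨ψ, hψloc, hψb⟩ := exists_stalkHom b hbpt
  haveI : IsLocalHom (ψ ≫ CommRingCat.ofHom π).hom := by
    rw [CommRingCat.hom_comp]; exact RingHom.isLocalHom_comp π ψ.hom
  haveI : IsLocalHom (g.stalkMap t ≫ φ).hom := by
    rw [CommRingCat.hom_comp]; exact RingHom.isLocalHom_comp φ.hom (g.stalkMap t).hom
  have hcompat : ψ ≫ CommRingCat.ofHom π = g.stalkMap t ≫ φ := by
    refine fromSpecStalk_injective _ _ ?_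
    rw [Spec.map_comp_assoc, Spec.map_comp_assoc, hψb, hab,
      Scheme.SpecMap_stalkMap_fromSpecStalk, reassoc_of% ha']
  let f : T.presheaf.stalk t →+* (Spec (CommRingCat.of C)).residueField (closedPoint C) :=
    (resMap C).comp φ.hom
  have hf : ∀ x, f x ≠ 0 → IsUnit x := fun x hx =>
    isUnit_of_map_unit φ.hom x (isUnit_of_ne_zero (resMap C) (resMap_surjective C) hx)
  have hffin : f.Finite := by
    have := hfin.comp (RingHom.Finite.of_surjective (T.residue t).hom (T.residue_surjective t))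
    rwa [residue_residueFieldMap_eq] at this
  have hχ' : Function.Surjective ((resMap C).comp π) := (resMap_surjective C).comp hπ
  let C₀ := resSub (resMap C) f
  let C₀' := resSub ((resMap C).comp π) f
  haveI : IsLocalRing C₀ := isLocalRing_resSub _ f (resMap_surjective C) hf
  haveI : IsLocalRing C₀' := isLocalRing_resSub _ f hχ' hf
  haveI : IsArtinianRing C₀ := isArtinianRing_resSub _ f (resMap_surjective C) hf hffin
  haveI : IsArtinianRing C₀' := isArtinianRing_resSub _ f hχ' hf hffin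
  haveI hincl : IsLocalHom C₀.subtype := isLocalHom_subtype _ f (resMap_surjective C) hf
  let π₀ : C₀' →+* C₀ := (π.comp C₀'.subtype).codRestrict C₀ fun x => x.2
  have hπ₀ : Function.Surjective π₀ := by
    rintro ⟨x, hx⟩
    obtain ⟨y, rfl⟩ := hπ x
    exact ⟨⟨y, hx⟩, rfl⟩
  let φ₀ : T.presheaf.stalk t ⟶ CommRingCat.of C₀ :=
    CommRingCat.ofHom (φ.hom.codRestrict C₀ fun x => ⟨x, rfl⟩)
  let ψ₀ : S.presheaf.stalk (g t) ⟶ CommRingCat.of C₀' :=
    CommRingCat.ofHom (ψ.hom.codRestrict C₀' fun x =>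
      ⟨(g.stalkMap t) x, (congrArg (resMap C) (ConcreteCategory.congr_hom hcompat x)).symm⟩)
  haveI : IsLocalHom φ₀.hom := ⟨fun x hx => isUnit_of_map_unit φ.hom x (hx.map C₀.subtype)⟩
  let a₀ : Spec (CommRingCat.of C₀) ⟶ T := Spec.map φ₀ ≫ T.fromSpecStalk t
  let b₀ : Spec (CommRingCat.of C₀') ⟶ S := Spec.map ψ₀ ≫ S.fromSpecStalk (g t)
  have hres : Function.Surjective (a₀.residueFieldMap (closedPoint C₀)).hom := by
    have e1 := residue_residueFieldMap_eq a₀
    have e2 : ∃ h : t = a₀ (closedPoint C₀), φ₀ =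
        (T.presheaf.stalkCongr (Inseparable.of_eq h)).hom ≫ Scheme.stalkClosedPointTo a₀ := by
      have := (SpecToEquivOfLocalRing T (CommRingCat.of C₀)).apply_symm_apply
        ⟨t, φ₀, inferInstance⟩
      obtain ⟨h1, h2⟩ := SpecToEquivOfLocalRing_eq_iff.mp this.symm
      exact ⟨h1, h2⟩
    obtain ⟨h, e2⟩ := e2
    intro z
    obtain ⟨c, rfl⟩ := resMap_surjective C₀ z
    obtain ⟨x, hx⟩ := c.2
    refine ⟨(T.residue _).hom ((T.presheaf.stalkCongr (Inseparable.of_eq h)).hom x), ?_⟩
    rw [← RingHom.comp_apply, e1, RingHom.comp_apply]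
    have h3 : (Scheme.stalkClosedPointTo a₀).hom
        ((T.presheaf.stalkCongr (Inseparable.of_eq h)).hom x) = φ₀.hom x := by
      conv_rhs => rw [e2]
      rfl
    rw [h3, ← sub_eq_zero, ← map_sub]
    have h4 : ¬ IsUnit (φ₀.hom x - c) := fun hu => by
      have := ((hu.map C₀.subtype).map (resMap C)).ne_zero
      exact this (by rw [Subring.subtype_apply, AddSubgroupClass.coe_sub, map_sub]; exact sub_eq_zero.mpr hx)
    by_contra h5
    exact h4 (isUnit_of_ne_zero (resMap C₀) (resMap_surjective C₀) h5)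
  have hab₀ : Spec.map (CommRingCat.ofHom π₀) ≫ b₀ = a₀ ≫ g := by
    have e : ψ₀ ≫ CommRingCat.ofHom π₀ = g.stalkMap t ≫ φ₀ := by
      ext x
      exact ConcreteCategory.congr_hom hcompat x
    simp only [a₀, b₀, Category.assoc]
    rw [← Spec.map_comp_assoc, e, Spec.map_comp_assoc, Scheme.SpecMap_stalkMap_fromSpecStalk]
  obtain ⟨c₀, hc₁, hc₂⟩ := hT C₀ C₀' π₀ hπ₀ a₀ b₀ (map_fromSpecStalk_closedPoint φ₀) hres hab₀
  refine ⟨Spec.map (CommRingCat.ofHom C₀'.subtype) ≫ c₀, ?_, ?_⟩
  · have e : CommRingCat.ofHom C₀'.subtype ≫ CommRingCat.ofHom π =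
        CommRingCat.ofHom π₀ ≫ CommRingCat.ofHom C₀.subtype := by
      ext x; rfl
    rw [← Spec.map_comp_assoc, e, Spec.map_comp_assoc, hc₁]
    simp only [a₀]
    rw [← Spec.map_comp_assoc]
    exact ha'
  · rw [Category.assoc, hc₂]
    simp only [b₀]
    rw [← Spec.map_comp_assoc]
    exact hψb

end Groth.Agent.Lib.ArtinLift4
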