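import Mathlib
import Groth.Agent.Lib.ArtinLift4.Scheme
import Groth.Agent.Lib.Weight.GeomPoints
import Groth.Agent.Lib.EtBasicB.OverField

/-!
Artinian lifting along an étale morphism.
-/

set_option autoImplicit false
universe u

open AlgebraicGeometry CategoryTheory IsLocalRing

namespace Groth.Agent.Lib.ArtinLift4

theorem exists_factor {X : Scheme.{u}} {V : X.Opens} (hV : IsAffineOpen V) {C : Type u}
    [CommRing C] [IsLocalRing C] (c : Spec (CommRingCat.of C) ⟶ X) (h : c (closedPoint C) ∈ V) :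
    ∃ γ : Γ(X, V) ⟶ CommRingCat.of C, Spec.map γ ≫ hV.fromSpec = c := by
  have hr : Set.range c ⊆ Set.range hV.fromSpec := by
    rw [hV.range_fromSpec]
    rintro _ ⟨y, rfl⟩
    exact ((IsLocalRing.specializes_closedPoint y).map c.continuous).mem_open V.2 h
  obtain ⟨γ, hγ⟩ := Spec.map_surjective (IsOpenImmersion.lift hV.fromSpec c hr)
  exact ⟨γ, by rw [hγ, IsOpenImmersion.lift_fac]⟩

theorem lift_etale {T U : Scheme.{u}} (e : U ⟶ T) [Etale e] {C C' : Type u} [CommRing C]
    [CommRing C'] [IsLocalRing C] [IsLocalRing C'] [IsArtinianRing C'] (π : C' →+* C)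
    (hπ : Function.Surjective π) (a : Spec (CommRingCat.of C) ⟶ U)
    (c : Spec (CommRingCat.of C') ⟶ T) (h : Spec.map (CommRingCat.ofHom π) ≫ c = a ≫ e) :
    ∃ d : Spec (CommRingCat.of C') ⟶ U, Spec.map (CommRingCat.ofHom π) ≫ d = a ∧ d ≫ e = c := by
  haveI : IsLocalHom π := .of_surjective π hπ
  have hpt : c (closedPoint C') = e (a (closedPoint C)) := by
    have := congrArg (fun f : Spec (CommRingCat.of C) ⟶ T => f (closedPoint C)) h
    simp only [Scheme.Hom.comp_apply] at this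
    rw [← this]
    congr 1
    exact (Spec_closedPoint (f := CommRingCat.ofHom π)).symm
  obtain ⟨V, hV, hcV, -⟩ := exists_isAffineOpen_mem_and_subset
    (show c (closedPoint C') ∈ (⊤ : T.Opens) from trivial)
  obtain ⟨W, hW, haW, hle⟩ := exists_isAffineOpen_mem_and_subset
    (show a (closedPoint C) ∈ e ⁻¹ᵁ V from (hpt ▸ hcV : e (a (closedPoint C)) ∈ V))
  have hle' : W ≤ e ⁻¹ᵁ V := hle
  obtain ⟨γ, hγ⟩ := exists_factor hV c hcV
  obtain ⟨α, hα⟩ := exists_factor hW a haW
  have hcomp : e.appLE V W hle' ≫ α = γ ≫ CommRingCat.ofHom π := by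
    refine Spec.map_injective ?_
    rw [← cancel_mono hV.fromSpec, Spec.map_comp_assoc, Spec.map_comp_assoc, hγ, h,
      IsAffineOpen.SpecMap_appLE_fromSpec e hV hW hle', reassoc_of% hα]
  letI : Algebra Γ(T, V) Γ(U, W) := (e.appLE V W hle').hom.toAlgebra
  haveI : Algebra.Etale Γ(T, V) Γ(U, W) := Scheme.Hom.etale_appLE e hV hW hle'
  letI : Algebra Γ(T, V) C' := γ.hom.toAlgebra
  letI : Algebra Γ(T, V) C := (π.comp γ.hom).toAlgebra
  let πa : C' →ₐ[Γ(T, V)] C := { π with commutes' := fun _ => rfl }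
  let αa : Γ(U, W) →ₐ[Γ(T, V)] C :=
    { α.hom with commutes' := fun x => ConcreteCategory.congr_hom hcomp x }
  have hnil : IsNilpotent (RingHom.ker (πa : C' →+* C)) := by
    obtain ⟨n, hn⟩ := IsArtinianRing.isNilpotent_jacobson_bot (R := C')
    refine ⟨n, ?_⟩
    rw [IsLocalRing.jacobson_eq_maximalIdeal _ bot_ne_top] at hn
    exact le_bot_iff.mp ((Ideal.pow_right_mono
      (le_maximalIdeal (RingHom.ker_ne_top _)) n).trans hn.le)
  let δ := Algebra.FormallySmooth.liftOfSurjective αa πa hπ hnil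
  refine ⟨Spec.map (CommRingCat.ofHom δ.toRingHom) ≫ hW.fromSpec, ?_, ?_⟩
  · have e1 : CommRingCat.ofHom δ.toRingHom ≫ CommRingCat.ofHom π = α := by
      ext x
      exact Algebra.FormallySmooth.liftOfSurjective_apply αa πa hπ hnil x
    rw [← Spec.map_comp_assoc, e1, hα]
  · have e1 : e.appLE V W hle' ≫ CommRingCat.ofHom δ.toRingHom = γ := by
      ext x
      exact δ.commutes x
    rw [Category.assoc, ← IsAffineOpen.SpecMap_appLE_fromSpec e hV hW hle', ← Spec.map_comp_assoc,
      e1, hγ]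

theorem trivialResLift_etale {S T U : Scheme.{u}} (g : T ⟶ S) (e : U ⟶ T) [Etale e] (u : U)
    (hT : TrivialResLift g (e u)) : TrivialResLift (e ≫ g) u := by
  intro C C' _ _ _ _ _ _ π hπ a b ha hres hab
  have hpt : (a ≫ e) (closedPoint C) = e u := by rw [Scheme.Hom.comp_apply, ha]
  haveI : LocallyQuasiFinite e := GrothLib.EtBasicB.locallyQuasiFinite_of_unramified e
  have hfin : ((a ≫ e).residueFieldMap (closedPoint C)).hom.Finite := by
    erw [Scheme.residueFieldMap_comp]
    erw [CommRingCat.hom_comp]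
    exact (RingHom.Finite.of_surjective _ hres).comp (GrothLib.Weight.finite_residueFieldMap e _)
  obtain ⟨c, hc₁, hc₂⟩ := lift_of_finite g (e u) hT C C' π hπ (a ≫ e) b hpt hfin
    (by rw [hab, Category.assoc])
  obtain ⟨d, hd₁, hd₂⟩ := lift_etale e π hπ a c hc₁
  exact ⟨d, hd₁, by rw [← Category.assoc, hd₂, hc₂]⟩

end Groth.Agent.Lib.ArtinLift4
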